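import Groth.Agent.Variety2.DimScheme
import Groth.Agent.Limits.FlatClosure
import Groth.Agent.FibreDim.Constructible
import Mathlib.RingTheory.Ideal.KrullsHeightTheorem

/-!
Dimension criteria for a morphism of schemes of finite type over a field:
dimension via fibre loci and proper intersection with a regularly immersed subscheme.
-/

universe u

open CategoryTheory AlgebraicGeometry TopologicalSpace Topology

namespace Groth.CharCycDim

open Groth.Variety2.Dim

variable {k : Type u} [Field k]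

section
variable {X : Scheme.{u}} (f : X ⟶ Spec (CommRingCat.of k)) [LocallyOfFiniteType f]

theorem add_le_iff_forall {α : Type*} (S : Set α) (h : α → ℕ∞) (c n : ℕ) :
    (⨆ x ∈ S, ((h x : ℕ∞) : WithBot ℕ∞)) + (c : WithBot ℕ∞) ≤ n ↔
      ∀ x ∈ S, ((h x : ℕ∞) : WithBot ℕ∞) + (c : WithBot ℕ∞) ≤ n := by
  constructor
  · exact fun H x hx => le_trans (add_le_add (le_iSup₂ (f := fun y (_ : y ∈ S) =>
      ((h y : ℕ∞) : WithBot ℕ∞)) x hx) le_rfl) H
  · intro H
    rcases S.eq_empty_or_nonempty with rfl | ⟨x, hx⟩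
    · simp
    have hc : c ≤ n := by
      have h1 : ((h x : ℕ∞) : WithBot ℕ∞) + ((c : ℕ∞) : WithBot ℕ∞) ≤ ((n : ℕ∞) : WithBot ℕ∞) := H x hx
      rw [← WithBot.coe_add, WithBot.coe_le_coe] at h1
      exact_mod_cast (le_add_self.trans h1)
    have hb : (⨆ x ∈ S, ((h x : ℕ∞) : WithBot ℕ∞)) ≤ (((n - c : ℕ) : ℕ∞) : WithBot ℕ∞) :=
      iSup₂_le fun y hy => by
        have h1 : ((h y : ℕ∞) : WithBot ℕ∞) + ((c : ℕ∞) : WithBot ℕ∞) ≤ ((n : ℕ∞) : WithBot ℕ∞) := H y hy
        rw [← WithBot.coe_add, WithBot.coe_le_coe] at h1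
        rw [WithBot.coe_le_coe]
        obtain ⟨m, hm⟩ : ∃ m : ℕ, (m : ℕ∞) = h y :=
          ENat.ne_top_iff_exists.1 fun e => absurd h1 (by simp [e])
        rw [← hm, ← Nat.cast_add, Nat.cast_le] at h1
        rw [← hm, Nat.cast_le]
        omega
    refine (add_le_add hb le_rfl).trans ?_
    change (((n - c : ℕ) : ℕ∞) : WithBot ℕ∞) + ((c : ℕ∞) : WithBot ℕ∞) ≤ ((n : ℕ∞) : WithBot ℕ∞)
    rw [← WithBot.coe_add, ← Nat.cast_add, Nat.sub_add_cancel hc]

include f in
/-- The dimension of a locally closed subset is the supremum of the heights of its points. -/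
theorem dim_locallyClosed {S : Set X} (hS : IsLocallyClosed S) :
    topologicalKrullDim S = ⨆ x ∈ S, ((Order.height x : ℕ∞) : WithBot ℕ∞) := by
  obtain ⟨U, Z, hU, hZ, rfl⟩ := hS
  let W : X.Opens := ⟨U, hU⟩
  have he : W.ι '' (W.ι ⁻¹' Z) = U ∩ Z := by
    rw [Set.image_preimage_eq_inter_range, Scheme.Opens.range_ι, Set.inter_comm]; rfl
  have e := W.ι.isOpenEmbedding.isEmbedding.homeomorphImage (W.ι ⁻¹' Z)
  rw [← (e.trans (Homeomorph.setCongr he)).isHomeomorph.topologicalKrullDim_eq,
    dim_closed (hZ.preimage W.ι.continuous)]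
  refine le_antisymm (iSup₂_le fun z hz => ?_) (iSup₂_le fun x hx => ?_)
  · rw [← height_eq_of_isPreimmersion (W.ι ≫ f) f W.ι rfl z]
    exact le_iSup₂ (f := fun x (_ : x ∈ U ∩ Z) => ((Order.height x : ℕ∞) : WithBot ℕ∞))
      (W.ι z) (he ▸ Set.mem_image_of_mem _ hz)
  · obtain ⟨z, hz, rfl⟩ := he.symm ▸ hx
    rw [height_eq_of_isPreimmersion (W.ι ≫ f) f W.ι rfl z]
    exact le_iSup₂ (f := fun z (_ : z ∈ W.ι ⁻¹' Z) => ((Order.height z : ℕ∞) : WithBot ℕ∞)) z hz

include f in
/-- A specialization is refined by a chain along which the height rises by exactly one. -/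
theorem exists_chain {a b : X} (hab : a ≤ b) :
    ∃ l : LTSeries X, l.head = a ∧ l.last = b ∧
      Order.height a + l.length = Order.height b := by
  obtain ⟨A, hA⟩ := exists_height_eq f a
  obtain ⟨B, hB⟩ := exists_height_eq f b
  suffices H : ∀ (j : ℕ) (a : X) (A : ℕ), Order.height a = A → B ≤ A + j → a ≤ b →
      ∃ l : LTSeries X, l.head = a ∧ l.last = b ∧
        Order.height a + l.length = Order.height b from H B a A hA (by omega) hab
  intro j
  induction j with
  | zero =>
    intro a A hA hj hab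
    have : a = b := by
      by_cases hba : b ≤ a
      · exact ((Scheme.le_iff_specializes.1 hba).antisymm (Scheme.le_iff_specializes.1 hab)).eq
      · have h1 := height_toNat_lt f (lt_of_le_not_ge hab hba)
        rw [hA, hB, Nat.cast_lt] at h1
        omega
    exact ⟨RelSeries.singleton _ a, rfl, this, by simp [this]⟩
  | succ j ih =>
    intro a A hA hj hab
    by_cases hba : b ≤ a
    · obtain rfl : a = b :=
        ((Scheme.le_iff_specializes.1 hba).antisymm (Scheme.le_iff_specializes.1 hab)).eq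
      exact ⟨RelSeries.singleton _ a, rfl, rfl, by simp⟩
    have hlt : a < b := lt_of_le_not_ge hab hba
    obtain ⟨c, ⟨hac, hcb⟩, hmin⟩ := WellFounded.has_min
      (InvImage.wf (fun z : X => Order.height z) (wellFounded_lt (α := ℕ∞)))
      {z : X | a < z ∧ z ≤ b} ⟨b, hlt, le_rfl⟩
    have hcov : a ⋖ c := ⟨hac, fun d h1 h2 => hmin d ⟨h1, h2.le.trans hcb⟩ (height_toNat_lt f h2)⟩
    have hh := height_eq_of_covBy f hcov
    obtain ⟨l, hl1, hl2, hl3⟩ := ih c (A + 1) (by rw [hh, hA]; push_cast; rfl) (by omega) hcb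
    refine ⟨RelSeries.cons l a (hl1 ▸ hac), by simp, by simp [hl2], ?_⟩
    rw [← hl3, hh]
    simp only [RelSeries.cons_length, Nat.cast_add, Nat.cast_one]
    abel

end

section
variable {X Y : Scheme.{u}} (f : X ⟶ Spec (CommRingCat.of k)) [LocallyOfFiniteType f]
  (q : Y ⟶ Spec (CommRingCat.of k)) [LocallyOfFiniteType q] (π : X ⟶ Y) (hπ : π ≫ q = f)

include hπ in
/-- Every point lies in the locus of fibres of dimension at least some `j`, and has height at
most the height of its image plus `j`. -/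
theorem exists_fibre_dim_add (x : X) :
    ∃ j : ℕ, (j : WithBot ℕ∞) ≤ topologicalKrullDim (π.fiber (π x)) ∧
      Order.height x = Order.height (π x) + j := by
  have : LocallyOfFiniteType (π ≫ q) := hπ ▸ inferInstance
  have : LocallyOfFiniteType π := locallyOfFiniteType_of_comp π q
  have : LocallyOfFiniteType (π.fiberToSpecResidueField (π x)) :=
    inferInstanceAs (LocallyOfFiniteType (Limits.pullback.snd π (Y.fromSpecResidueField (π x))))
  obtain ⟨z, hz⟩ : x ∈ Set.range (π.fiberι (π x)) := by rw [Scheme.Hom.range_fiberι]; rfl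
  obtain ⟨j, hj⟩ := exists_height_eq (k := Y.residueField (π x))
    (π.fiberToSpecResidueField (π x)) z
  refine ⟨j, ?_, ?_⟩
  · rw [dim_eq_iSup_height]
    refine le_trans ?_ (le_iSup (fun z => ((Order.height z : ℕ∞) : WithBot ℕ∞)) z)
    rw [hj]; rfl
  · have h := height_fiber_add f q π hπ (π x) z
    rw [hz, hj, add_comm] at h
    exact h.symm

include hπ in
/-- A fibre of dimension at least `j` contains a point of height at least `j` more than its image. -/
theorem exists_point_of_le_dim {y : Y} {j : ℕ}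
    (hy : (j : WithBot ℕ∞) ≤ topologicalKrullDim (π.fiber y)) :
    ∃ x : X, π x = y ∧ Order.height y + j ≤ Order.height x := by
  obtain ⟨z, hz⟩ : ∃ z : π.fiber y, (j : ℕ∞) ≤ Order.height z := by
    by_contra H
    push Not at H
    rw [dim_eq_iSup_height] at hy
    cases j with
    | zero =>
      rcases isEmpty_or_nonempty (π.fiber y) with hE | ⟨⟨z⟩⟩
      · rw [iSup_of_empty] at hy; simp at hy
      · exact absurd (H z) (by simp)
    | succ m =>
      have hb : (⨆ z : π.fiber y, ((Order.height z : ℕ∞) : WithBot ℕ∞)) ≤ ((m : ℕ∞) : WithBot ℕ∞) :=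
        iSup_le fun z => WithBot.coe_le_coe.2 ((ENat.lt_natCast_add_one_iff).1 (by
          simpa using H z))
      have h2 : (((m + 1 : ℕ) : ℕ∞) : WithBot ℕ∞) ≤ ((m : ℕ∞) : WithBot ℕ∞) := hy.trans hb
      rw [WithBot.coe_le_coe, Nat.cast_le] at h2
      omega
  refine ⟨π.fiberι y z, ?_, ?_⟩
  · have : π.fiberι y z ∈ Set.range (π.fiberι y) := ⟨z, rfl⟩
    rw [Scheme.Hom.range_fiberι] at this
    exact this
  · rw [← height_fiber_add f q π hπ y z, add_comm (Order.height z)]
    exact add_le_add le_rfl hz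

end

/-- The loci of fibres of dimension at least `j` are pro-constructible. -/
theorem pc_le_dim {X Y : Scheme.{u}} (π : X ⟶ Y) [LocallyOfFinitePresentation π] [QuasiCompact π]
    (j : ℕ) : Groth.Limits.PC {y : Y | (j : WithBot ℕ∞) ≤ topologicalKrullDim (π.fiber y)} := by
  refine Groth.Limits.pc_of_isLocallyConstructible ?_
  cases j with
  | zero =>
    convert Groth.EGA41Two.isLocallyConstructible_compl
      (Groth.FibreDim.isLocallyConstructible_dim_fiber_bot π) using 1
    ext y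
    simp only [Set.mem_setOf_eq, Set.mem_compl_iff]
    generalize topologicalKrullDim ↥(π.fiber y) = d
    cases d with
    | bot => simp
    | coe d => simp
  | succ m =>
    convert Groth.EGA41Two.isLocallyConstructible_compl
      (Groth.FibreDim.isLocallyConstructible_dim_fiber_le π m) using 1
    ext y
    simp only [Set.mem_setOf_eq, Set.mem_compl_iff, not_le]
    generalize topologicalKrullDim ↥(π.fiber y) = d
    cases d with
    | bot => simp
    | coe d =>
      change (((m + 1 : ℕ) : ℕ∞) : WithBot ℕ∞) ≤ d ↔ ((m : ℕ∞) : WithBot ℕ∞) < d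
      rw [WithBot.coe_le_coe, WithBot.coe_lt_coe, Nat.cast_add, Nat.cast_one,
        ENat.add_one_le_iff (ENat.coe_ne_top m)]

/-- Over an affine open on which it is a closed immersion, the range is cut out by the kernel. -/
theorem range_inter_eq_zeroLocus {X W : Scheme.{u}} (i : W ⟶ X) {U : X.Opens} (hU : IsAffineOpen U)
    [IsClosedImmersion (i ∣_ U)] :
    Set.range i ∩ U = X.zeroLocus (RingHom.ker (i.app U).hom : Set Γ(X, U)) ∩ U := by
  have : IsAffine (U : Scheme) := hU
  have hW : IsAffineOpen (i ⁻¹ᵁ U) := isAffine_of_isAffineHom (i ∣_ U)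
  apply subset_antisymm
  · rintro _ ⟨⟨w, rfl⟩, hwU⟩
    refine ⟨?_, hwU⟩
    rw [Scheme.mem_zeroLocus_iff]
    intro r hr hw
    have h : w ∈ i ⁻¹ᵁ X.basicOpen r := hw
    rw [Scheme.preimage_basicOpen, RingHom.mem_ker.1 hr, Scheme.basicOpen_zero] at h
    exact h
  · rw [← hU.fromSpec_image_zeroLocus]
    rintro _ ⟨p, hp, rfl⟩
    refine ⟨?_, hU.range_fromSpec.le ⟨p, rfl⟩⟩
    have hcl : IsClosed (hU.fromSpec ⁻¹' Set.range i) := by
      have h1 : U.ι ⁻¹' Set.range i = Set.range (i ∣_ U) := by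
        ext x
        constructor
        · rintro ⟨w, hw⟩
          exact ⟨⟨w, show i w ∈ U from hw ▸ x.2⟩, Subtype.ext ((morphismRestrict_base_coe i U _).trans hw)⟩
        · rintro ⟨w, rfl⟩
          exact ⟨w.1, (morphismRestrict_base_coe i U w).symm⟩
      have h2 : IsClosed (U.ι ⁻¹' Set.range i) := h1 ▸ (i ∣_ U).isClosedEmbedding.isClosed_range
      exact h2.preimage hU.isoSpec.inv.continuous
    refine hcl.closure_subset_iff.2 ?_ ((PrimeSpectrum.closure_range_comap (i.app U).hom).ge hp)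
    rintro _ ⟨z, rfl⟩
    have h := IsAffineOpen.SpecMap_appLE_fromSpec i hU hW le_rfl
    rw [← Scheme.Hom.app_eq_appLE] at h
    exact ⟨hW.fromSpec z, congr($(h).base z).symm⟩

section
variable {C X W : Scheme.{u}} (q : X ⟶ Spec (CommRingCat.of k)) (π : C ⟶ X) (ι : W ⟶ X)
  [LocallyOfFiniteType q] [LocallyOfFiniteType π]

include q in
/-- Krull's height theorem for the preimage of a subscheme cut out locally by `c` equations. -/
theorem height_le_height_add {η x : C} {U : X.Opens} (hU : IsAffineOpen U)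
    [IsClosedImmersion (ι ∣_ U)] (rs : List Γ(X, U))
    (hker : RingHom.ker (ι.app U).hom = Ideal.ofList rs)
    (hη : η ⤳ x) (hxU : π x ∈ U) (hx : π x ∈ Set.range ι)
    (hmin : ∀ y : C, η ⤳ y → y ⤳ x → π y ∈ Set.range ι → y = x) :
    Order.height η ≤ Order.height x + rs.length := by
  classical
  obtain ⟨V, hV, hxV, hVU⟩ := exists_isAffineOpen_mem_and_subset (U := π ⁻¹ᵁ U) hxU
  have hVU : V ≤ π ⁻¹ᵁ U := hVU
  have : IsLocallyNoetherian C := LocallyOfFiniteType.isLocallyNoetherian (π ≫ q)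
  let A := Γ(C, V)
  have : IsNoetherianRing A := IsLocallyNoetherian.component_noetherian ⟨V, hV⟩
  let ψ := hV.fromSpec
  have hψ : Function.Injective ψ := hV.fromSpec.isOpenEmbedding.injective
  have hex : ∀ y : C, y ⤳ x → ∃ p : PrimeSpectrum A, ψ p = y := fun y hy =>
    hV.range_fromSpec.ge (hy.mem_open V.2 hxV)
  have hle : ∀ a b : PrimeSpectrum A, ψ a ⤳ ψ b ↔ a.asIdeal ≤ b.asIdeal := fun a b => by
    refine hV.fromSpec.isOpenEmbedding.isInducing.specializes_iff.trans ?_
    exact (PrimeSpectrum.le_iff_specializes a b).symm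
  let rs' : List A := rs.map (π.appLE U V hVU).hom
  have hmem : ∀ p : PrimeSpectrum A, π (ψ p) ∈ Set.range ι ↔ ∀ r ∈ rs', r ∈ p.asIdeal := by
    intro p
    have hpV : ψ p ∈ V := hV.range_fromSpec.le ⟨p, rfl⟩
    have hpU : π (ψ p) ∈ U := hVU hpV
    have h0 : π (ψ p) ∈ Set.range ι ↔ π (ψ p) ∈ X.zeroLocus (RingHom.ker (ι.app U).hom : Set Γ(X, U)) := by
      constructor
      · exact fun h => ((range_inter_eq_zeroLocus ι hU).le ⟨h, hpU⟩).1
      · exact fun h => ((range_inter_eq_zeroLocus ι hU).ge ⟨h, hpU⟩).1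
    have h1 : ∀ r : Γ(X, U), π (ψ p) ∈ X.basicOpen r ↔ (π.appLE U V hVU).hom r ∉ p.asIdeal := by
      intro r
      rw [show (π (ψ p) ∈ X.basicOpen r) ↔ ψ p ∈ π ⁻¹ᵁ X.basicOpen r from Iff.rfl,
        Scheme.preimage_basicOpen]
      have h2 : (p ∈ ψ ⁻¹ᵁ C.basicOpen ((π.appLE U V hVU).hom r)) ↔
          (π.appLE U V hVU).hom r ∉ p.asIdeal := by
        rw [hV.fromSpec_preimage_basicOpen]; exact Iff.rfl
      rw [← h2]
      change _ ↔ ψ p ∈ C.basicOpen (π.appLE U V hVU r)
      rw [Scheme.Hom.appLE]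
      simp only [CommRingCat.comp_apply, Scheme.basicOpen_res]
      exact ⟨fun h => ⟨hpV, h⟩, fun h => h.2⟩
    rw [h0, hker, Scheme.mem_zeroLocus_iff]
    constructor
    · intro H r hr
      obtain ⟨r₀, hr₀, rfl⟩ := List.mem_map.1 hr
      by_contra hn
      exact H r₀ (Ideal.subset_span hr₀) ((h1 r₀).2 hn)
    · intro H r hr hb
      refine (h1 r).1 hb ?_
      have : Ideal.ofList rs ≤ p.asIdeal.comap (π.appLE U V hVU).hom :=
        Ideal.span_le.2 fun s hs => H _ (List.mem_map.2 ⟨s, hs, rfl⟩)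
      exact this hr
  obtain ⟨pη, hpη⟩ := hex η hη
  obtain ⟨px, hpx⟩ := hex x specializes_rfl
  have hηx : pη.asIdeal ≤ px.asIdeal := (hle _ _).1 (by rw [hpη, hpx]; exact hη)
  have hxrs : ∀ r ∈ rs', r ∈ px.asIdeal := (hmem px).1 (by rw [hpx]; exact hx)
  let mk := Ideal.Quotient.mk pη.asIdeal
  have hmk : Function.Surjective mk := Ideal.Quotient.mk_surjective
  have hker' : ∀ p : PrimeSpectrum A, pη.asIdeal ≤ p.asIdeal → RingHom.ker mk ≤ p.asIdeal :=
    fun p h => by rw [Ideal.mk_ker]; exact h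
  let T : Finset (A ⧸ pη.asIdeal) := (rs'.map mk).toFinset
  let Q : Ideal (A ⧸ pη.asIdeal) := px.asIdeal.map mk
  have hQ : Q.IsPrime := Ideal.map_isPrime_of_surjective hmk (hker' px hηx)
  have hQc : Q.comap mk = px.asIdeal := by
    rw [Ideal.comap_map_of_surjective _ hmk, ← RingHom.ker_eq_comap_bot, sup_eq_left]
    exact hker' px hηx
  have hQmin : Q ∈ (Ideal.span (T : Set (A ⧸ pη.asIdeal))).minimalPrimes := by
    refine ⟨⟨hQ, Ideal.span_le.2 ?_⟩, fun Q' ⟨hQ', hTQ'⟩ hQ'Q => ?_⟩
    · intro t ht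
      rw [Finset.mem_coe, List.mem_toFinset, List.mem_map] at ht
      obtain ⟨r, hr, rfl⟩ := ht
      exact Ideal.mem_map_of_mem _ (hxrs r hr)
    · let p' : PrimeSpectrum A := ⟨Q'.comap mk, hQ'.comap _⟩
      have h1 : pη.asIdeal ≤ p'.asIdeal := fun a ha => by
        change mk a ∈ Q'
        rw [Ideal.Quotient.eq_zero_iff_mem.2 ha]; exact Q'.zero_mem
      have h2 : p'.asIdeal ≤ px.asIdeal := hQc ▸ Ideal.comap_mono hQ'Q
      have h3 : ψ p' = x := hmin _ (hpη ▸ (hle _ _).2 h1) (hpx ▸ (hle _ _).2 h2)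
        ((hmem p').2 fun r hr => hTQ' (Ideal.subset_span (by
          rw [Finset.mem_coe, List.mem_toFinset]; exact List.mem_map.2 ⟨r, hr, rfl⟩)))
      have h4 : p' = px := hψ (h3.trans hpx.symm)
      rw [← Ideal.map_comap_of_surjective _ hmk Q']
      change Q ≤ p'.asIdeal.map mk
      rw [h4]
  have hKrull : Q.height ≤ rs.length := by
    refine (Ideal.height_le_card_of_mem_minimalPrimes_span_finset hQmin).trans ?_
    exact_mod_cast (List.toFinset_card_le _).trans (by simp [rs'])
  have : LocallyOfFiniteType (π ≫ q) := inferInstance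
  obtain ⟨l, hl1, hl2, hl3⟩ := exists_chain (π ≫ q) (Scheme.le_iff_specializes.2 hη)
  have hlx : ∀ i, l i ⤳ x := fun i => hl1 ▸ Scheme.le_iff_specializes.1 (l.monotone (Fin.zero_le i))
  have hlη : ∀ i, η ⤳ l i := fun i => hl2 ▸ Scheme.le_iff_specializes.1 (l.monotone (Fin.le_last i))
  choose P hP using fun i => hex (l i) (hlx i)
  have hPle : ∀ i, pη.asIdeal ≤ (P i).asIdeal := fun i => (hle _ _).1 (by rw [hpη, hP]; exact hlη i)
  have hPc : ∀ i, ((P i).asIdeal.map mk).comap mk = (P i).asIdeal := fun i => by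
    rw [Ideal.comap_map_of_surjective _ hmk, ← RingHom.ker_eq_comap_bot, sup_eq_left]
    exact hker' _ (hPle i)
  let L : LTSeries (PrimeSpectrum (A ⧸ pη.asIdeal)) :=
    ⟨l.length, fun i => ⟨(P i.rev).asIdeal.map mk,
      Ideal.map_isPrime_of_surjective hmk (hker' _ (hPle i.rev))⟩, fun i => by
      have hlt : l i.succ.rev < l i.castSucc.rev := by
        rw [Fin.rev_succ, Fin.rev_castSucc]; exact l.step i.rev
      have h1 : (P i.castSucc.rev).asIdeal ≤ (P i.succ.rev).asIdeal :=
        (hle _ _).1 (by rw [hP, hP]; exact Scheme.le_iff_specializes.1 hlt.le)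
      refine lt_of_le_of_ne (Ideal.map_mono h1) fun e => ?_
      have e' := congrArg (Ideal.comap mk) e
      simp only [hPc] at e'
      exact hlt.ne (by rw [← hP, ← hP, PrimeSpectrum.ext e'])⟩
  have hlast : L.last = ⟨Q, hQ⟩ := by
    refine PrimeSpectrum.ext ?_
    change (P (Fin.last l.length).rev).asIdeal.map mk = Q
    have : P (Fin.last l.length).rev = px := hψ (by rw [hP, hpx, Fin.rev_last]; exact hl1)
    rw [this]
  have hlen : (l.length : ℕ∞) ≤ Q.height := by
    rw [show Q.height = Order.height (⟨Q, hQ⟩ : PrimeSpectrum (A ⧸ pη.asIdeal)) from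
      PrimeSpectrum.height_eq_orderHeight ⟨Q, hQ⟩, ← hlast]
    exact Order.length_le_height_last (p := L)
  rw [← hl3]
  exact add_le_add le_rfl (hlen.trans hKrull)

end

/-- The generic point of an irreducible component of a locally closed subset. -/
theorem exists_generic_of_component {C : Scheme.{u}} {S : Set C} (hS : IsLocallyClosed S)
    {Q : Set S} (hQ : Q ∈ irreducibleComponents S) :
    ∃ x ∈ S, Subtype.val '' Q = closure {x} ∩ S ∧
      ∀ y ∈ S, y ⤳ x → y = x := by
  have : QuasiSober S := by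
    obtain ⟨U, Z, hU, hZ, rfl⟩ := hS
    have : QuasiSober U := hU.isOpenEmbedding_subtypeVal.quasiSober
    have he : IsClosedEmbedding (Set.inclusion (Set.inter_subset_left : U ∩ Z ⊆ U)) := by
      refine ⟨IsEmbedding.inclusion _, ?_⟩
      rw [Set.range_inclusion]
      convert hZ.preimage continuous_subtype_val using 1
      ext y; simp
    exact he.quasiSober
  obtain ⟨z, hz⟩ := QuasiSober.sober hQ.1 (isClosed_of_mem_irreducibleComponents Q hQ)
  refine ⟨z.1, z.2, ?_, fun y hy hyz => ?_⟩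
  · rw [← hz.def, Topology.IsEmbedding.subtypeVal.isInducing.closure_eq_preimage_closure_image,
      Set.image_singleton, Subtype.image_preimage_coe, Set.inter_comm]
  · have h1 : (⟨y, hy⟩ : S) ⤳ z := subtype_specializes_iff _ _ |>.2 hyz
    have h2 : Q ⊆ closure {(⟨y, hy⟩ : S)} := by
      rw [← hz.def]
      exact h1.closure_subset
    have h3 := hQ.2 isIrreducible_singleton.closure h2
    have h4 : z ⤳ (⟨y, hy⟩ : S) := by
      rw [specializes_iff_mem_closure, hz.def]
      exact h3 (subset_closure rfl)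
    exact congrArg Subtype.val (h1.antisymm h4).eq

end Groth.CharCycDim
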