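import Groth.Agent.CharCyc.DimCrit
import Mathlib.AlgebraicGeometry.Morphisms.UniversallyInjective
import Mathlib.AlgebraicGeometry.Noetherian

/-!
Well intersecting closed subsets with respect to a morphism of schemes of finite type over a field.
-/

universe u

open CategoryTheory CategoryTheory.Limits AlgebraicGeometry TopologicalSpace Topology

namespace Groth.CharCycDim

open Groth.Variety2.Dim

variable {k : Type u} [Field k] {X S : Scheme.{u}}
  (q : S ⟶ Spec (CommRingCat.of k)) (f : X ⟶ S)

/-- The off-diagonal part of `Y ×_S Z` is locally closed. -/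
theorem isLocallyClosed_offDiag [IsSeparated f] {Y Z : Set X} (hY : IsClosed Y) (hZ : IsClosed Z) :
    IsLocallyClosed {p : ↥(pullback f f) | pullback.fst f f p ∈ Y ∧ pullback.snd f f p ∈ Z ∧
      p ∉ Set.range (pullback.diagonal f)} := by
  have h1 : IsOpen (Set.range (pullback.diagonal f))ᶜ :=
    (pullback.diagonal f).isClosedEmbedding.isClosed_range.isOpen_compl
  have h2 := ((hY.preimage (pullback.fst f f).continuous).inter
    (hZ.preimage (pullback.snd f f).continuous)).isLocallyClosed.inter h1.isLocallyClosed
  convert h2 using 1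
  ext p
  exact ⟨fun h => ⟨⟨h.1, h.2.1⟩, h.2.2⟩, fun h => ⟨h.1.1, h.1.2, h.2⟩⟩

/-- Subsets of a Noetherian scheme which are locally closed are constructible. -/
theorem isConstructible_of_isLocallyClosed {T : Scheme.{u}} [IsNoetherian T] {E : Set T}
    (hE : IsLocallyClosed E) : IsConstructible E := by
  obtain ⟨U, Z, hU, hZ, rfl⟩ := hE
  have h : ∀ V : Set T, IsOpen V → IsConstructible V := fun V hV =>
    IsRetrocompact.isConstructible hV (fun W _ _ => NoetherianSpace.isCompact _)
  exact (h U hU).inter (compl_compl Z ▸ (h Zᶜ hZ.isOpen_compl).compl)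

/-- The images of constructible sets under morphisms of finite type between schemes of finite type
over a field are closed in the constructible topology. -/
theorem pc_image [LocallyOfFiniteType f] [IsNoetherian S] [IsNoetherian X] {E : Set X}
    (hE : IsLocallyClosed E) : Groth.Limits.PC (f '' E) := by
  have : LocallyOfFinitePresentation f := inferInstance
  exact Groth.Limits.pc_of_isLocallyConstructible
    (f.isLocallyConstructible_image (isConstructible_of_isLocallyClosed hE).isLocallyConstructible)

variable [LocallyOfFiniteType q] [LocallyOfFiniteType f] [IsSeparated f]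

include q in
/-- If the pair is well intersecting, then the larger dimensional generic point has no partner. -/
theorem no_partner {Y Z : Set X} (hYc : IsClosed Y) (hYi : IsIrreducible Y) (hZc : IsClosed Z)
    (hWI : topologicalKrullDim {p : ↥(pullback f f) | pullback.fst f f p ∈ Y ∧ pullback.snd f f p ∈ Z ∧ p ∉ Set.range (pullback.diagonal f)} + topologicalKrullDim S ≤ topologicalKrullDim Y + topologicalKrullDim Z)
    (hZS : topologicalKrullDim Z < topologicalKrullDim S) {η : X} (hη : IsGenericPoint η Y)
    (p : ↥(pullback f f)) (h1 : pullback.fst f f p = η) (h2 : pullback.snd f f p ∈ Z) :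
    p ∈ Set.range (pullback.diagonal f) := by
  by_contra hp
  let g : pullback f f ⟶ Spec (CommRingCat.of k) := pullback.fst f f ≫ f ≫ q
  obtain ⟨j, -, hj⟩ := exists_fibre_dim_add g (f ≫ q) (pullback.fst f f) rfl p
  rw [h1] at hj
  have hY : topologicalKrullDim Y = (Order.height η : ℕ∞) := by
    rw [← hη.def, dim_closure_singleton]
  have hT : ((Order.height η : ℕ∞) : WithBot ℕ∞) ≤ topologicalKrullDim {p : ↥(pullback f f) |
      pullback.fst f f p ∈ Y ∧ pullback.snd f f p ∈ Z ∧ p ∉ Set.range (pullback.diagonal f)} := by
    rw [dim_locallyClosed g (isLocallyClosed_offDiag f hYc hZc)]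
    refine le_iSup₂_of_le p ⟨h1 ▸ hη.mem, h2, hp⟩ ?_
    rw [WithBot.coe_le_coe, hj]
    exact le_self_add
  obtain ⟨m, hm⟩ := exists_height_eq (f ≫ q) η
  have h3 := (add_le_add hT le_rfl).trans hWI
  rw [hY, hm] at h3
  generalize topologicalKrullDim Z = a at h3 hZS
  generalize topologicalKrullDim S = b at h3 hZS
  induction b with
  | bot => exact not_lt_bot hZS
  | coe b =>
    induction a with
    | bot => simp at h3
    | coe a =>
      rw [← WithBot.coe_add, ← WithBot.coe_add, WithBot.coe_le_coe,
        (ENat.addLECancellable_natCast m).add_le_add_iff_left] at h3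
      exact (WithBot.coe_lt_coe.1 hZS).not_ge h3

end Groth.CharCycDim
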